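import Mathlib

set_option autoImplicit false

/-!
# Vaughan-Lee's breadth theorem (S3777): definitions

Blueprint: `tools/helper38_vl/PROOF.md`.
-/

namespace Cfsg.Agent.Helper38.VL

/-- `x` is *good*: its centralizer lies in `⟨x⟩ Φ(G)`. -/
def Good {G : Type*} [Group G] (x : G) : Prop :=
  Subgroup.centralizer ({x} : Set G) ≤ Subgroup.zpowers x ⊔ frattini G

/-- `G` is *critical*: no proper subgroup has the same derived subgroup. -/
def Critical (G : Type*) [Group G] : Prop :=
  ∀ H : Subgroup G, H ≠ ⊤ → (commutator H).map H.subtype ≠ commutator G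

/-- Linear-algebra model of a good point.  `R α` is a codimension-2 subspace inside the
hyperplane `ker α`; `v` is good if the hyperplanes `ker α ∋ v` with `v ∉ R α` intersect
in the line spanned by `v`. -/
def GoodVec {p : ℕ} [Fact p.Prime] {V : Type*} [AddCommGroup V] [Module (ZMod p) V]
    (R : Module.Dual (ZMod p) V → Submodule (ZMod p) V) (v : V) : Prop :=
  v ≠ 0 ∧ ∀ w : V,
    (∀ α : Module.Dual (ZMod p) V, α ≠ 0 → α v = 0 → v ∉ R α → α w = 0) →
      w ∈ Submodule.span (ZMod p) {v}

end Cfsg.Agent.Helper38.VL
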