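import Mathlib
import Cfsg.Agent.Helper38.VL.Defs
import Cfsg.Agent.Helper63.Frattini

set_option autoImplicit false

namespace Cfsg.Agent.Helper38.VL

open Subgroup

/-- `|⟨x⟩Φ : Φ| ≤ p` in a finite `p`-group. -/
theorem S2_relIndex_frattini_le {G : Type*} [Group G] [Finite G] {p : ℕ} [Fact p.Prime]
    (hG : IsPGroup p G) (x : G) :
    (frattini G).relIndex (Subgroup.zpowers x ⊔ frattini G) ≤ p := by
  have hp : p.Prime := Fact.out
  have h1 : (frattini G).relIndex (Subgroup.zpowers x ⊔ frattini G) =
      Nat.card ((Subgroup.zpowers x ⊔ frattini G).map (QuotientGroup.mk' (frattini G))) := by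
    have h := Subgroup.relIndex_comap (⊥ : Subgroup (G ⧸ frattini G))
      (QuotientGroup.mk' (frattini G)) (Subgroup.zpowers x ⊔ frattini G)
    rw [Subgroup.relIndex_bot_left] at h
    rw [← h]
    congr 1
    ext g
    simp
  rw [h1]
  have h2 : (Subgroup.zpowers x ⊔ frattini G).map (QuotientGroup.mk' (frattini G)) =
      Subgroup.zpowers (QuotientGroup.mk' (frattini G) x) := by
    rw [Subgroup.map_sup, MonoidHom.map_zpowers]
    have : (frattini G).map (QuotientGroup.mk' (frattini G)) = ⊥ := by
      rw [Subgroup.map_eq_bot_iff, QuotientGroup.ker_mk']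
    rw [this, sup_bot_eq]
  rw [h2, Nat.card_zpowers]
  have h3 : (QuotientGroup.mk' (frattini G) x) ^ p = 1 := by
    rw [← map_pow]
    exact (QuotientGroup.eq_one_iff _).mpr (Cfsg.Agent.Helper63.pow_prime_mem_frattini hG x)
  exact Nat.le_of_dvd hp.pos (orderOf_dvd_of_pow_eq_one h3)

/-- (S2) breadth of a good element. -/
theorem good_index_bound {G : Type*} [Group G] [Finite G] {p : ℕ} [Fact p.Prime]
    (hG : IsPGroup p G) {x : G} (hx : Good x) (_hxΦ : x ∉ frattini G) :
    (frattini G).index * (Subgroup.centralizer ({x} : Set G)).relIndex (frattini G)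
      ≤ p * (Subgroup.centralizer ({x} : Set G)).index := by
  set L : Subgroup G := Subgroup.zpowers x ⊔ frattini G with hL
  set C : Subgroup G := Subgroup.centralizer ({x} : Set G) with hC
  have hCL : C ≤ L := hx
  have hΦL : frattini G ≤ L := le_sup_right
  have e1 : C.relIndex L * L.index = C.index := Subgroup.relIndex_mul_index hCL
  have e2 : (frattini G).relIndex L * L.index = (frattini G).index :=
    Subgroup.relIndex_mul_index hΦL
  have e3 : C.relIndex (frattini G) ≤ C.relIndex L :=
    Subgroup.relIndex_le_of_le_right hΦL (by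
      unfold Subgroup.relIndex
      exact Subgroup.index_ne_zero_of_finite)
  have e4 : (frattini G).relIndex L ≤ p := S2_relIndex_frattini_le hG x
  calc (frattini G).index * C.relIndex (frattini G)
      = (frattini G).relIndex L * L.index * C.relIndex (frattini G) := by rw [e2]
    _ ≤ p * L.index * C.relIndex L :=
        Nat.mul_le_mul (Nat.mul_le_mul_right _ e4) e3
    _ = p * (C.relIndex L * L.index) := by ring
    _ = p * C.index := by rw [e1]

end Cfsg.Agent.Helper38.VL
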