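import Mathlib
import Cfsg.Agent.Helper38.VL.Defs
import Cfsg.Agent.Helper63.Frattini
import Cfsg.Agent.Helper2.Basic

set_option autoImplicit false

namespace Cfsg.Agent.Helper38.VL

open Subgroup
open scoped commutatorElement

section class2

variable {Q : Type*} [Group Q]

theorem S3_comm_mul_left (hc : ∀ a b : Q, ⁅a, b⁆ ∈ Subgroup.center Q) (a a' b : Q) :
    ⁅a * a', b⁆ = ⁅a, b⁆ * ⁅a', b⁆ := by
  have h1 : ⁅a * a', b⁆ = a * ⁅a', b⁆ * a⁻¹ * ⁅a, b⁆ := by
    simp only [commutatorElement_def]; group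
  have h2 : a * ⁅a', b⁆ = ⁅a', b⁆ * a := Subgroup.mem_center_iff.mp (hc a' b) a
  have h3 : ⁅a, b⁆ * ⁅a', b⁆ = ⁅a', b⁆ * ⁅a, b⁆ := Subgroup.mem_center_iff.mp (hc a' b) _
  rw [h1, h2, mul_inv_cancel_right, h3]

theorem S3_comm_mul_right (hc : ∀ a b : Q, ⁅a, b⁆ ∈ Subgroup.center Q) (a b b' : Q) :
    ⁅a, b * b'⁆ = ⁅a, b⁆ * ⁅a, b'⁆ := by
  have h := S3_comm_mul_left hc b b' a
  have h3 : ⁅a, b⁆ * ⁅a, b'⁆ = ⁅a, b'⁆ * ⁅a, b⁆ := Subgroup.mem_center_iff.mp (hc a b') _
  rw [← commutatorElement_inv (b * b') a, h, mul_inv_rev, commutatorElement_inv,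
    commutatorElement_inv, h3]

theorem S3_comm_pow_left (hc : ∀ a b : Q, ⁅a, b⁆ ∈ Subgroup.center Q) (a b : Q) (n : ℕ) :
    ⁅a ^ n, b⁆ = ⁅a, b⁆ ^ n := by
  induction n with
  | zero => simp
  | succ n ih => rw [pow_succ, S3_comm_mul_left hc, ih, pow_succ]

/-- closure of finitely many central elements of order dividing `p`. -/
theorem S3_card_closure_le [Finite Q] {p : ℕ} (hp : 0 < p) (s : Finset Q)
    (hs : ∀ c ∈ s, c ∈ Subgroup.center Q ∧ c ^ p = 1) :
    Nat.card (Subgroup.closure (s : Set Q)) ≤ p ^ s.card := by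
  classical
  induction s using Finset.induction_on with
  | empty => simp
  | insert c s hcs ih =>
    have hc := hs c (Finset.mem_insert_self c s)
    have ih' := ih (fun c' hc' => hs c' (Finset.mem_insert_of_mem hc'))
    have hzc : Subgroup.zpowers c ≤ Subgroup.center Q := by
      rw [Subgroup.zpowers_le]; exact hc.1
    have : (Subgroup.zpowers c).Normal :=
      ⟨fun n hn g => by
        have := Subgroup.mem_center_iff.mp (hzc hn) g
        rw [this, mul_inv_cancel_right]; exact hn⟩
    have hcl : Subgroup.closure ((insert c s : Finset Q) : Set Q) =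
        Subgroup.zpowers c ⊔ Subgroup.closure (s : Set Q) := by
      rw [Finset.coe_insert, Set.insert_eq, Subgroup.closure_union, Subgroup.zpowers_eq_closure]
    have hz : Nat.card (Subgroup.zpowers c) ≤ p := by
      rw [Nat.card_zpowers]
      exact Nat.le_of_dvd hp (orderOf_dvd_of_pow_eq_one hc.2)
    have hset : Nat.card (↥(Subgroup.zpowers c ⊔ Subgroup.closure (s : Set Q))) =
        Nat.card (↥((Subgroup.zpowers c ⊔ Subgroup.closure (s : Set Q) : Subgroup Q) : Set Q)) :=
      rfl
    rw [hcl, hset, Subgroup.normal_mul, Finset.card_insert_of_notMem hcs, pow_succ, Nat.mul_comm]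
    exact Set.natCard_mul_le.trans (Nat.mul_le_mul hz ih')

/-- in a class-2 group generated by `y`, the derived subgroup is generated by the `⁅y i, y j⁆`. -/
theorem S3_commutator_le_closure (hc : ∀ a b : Q, ⁅a, b⁆ ∈ Subgroup.center Q)
    {ι : Type*} (y : ι → Q) (hgen : Subgroup.closure (Set.range y) = ⊤)
    (T : Subgroup Q) (hT : ∀ i j, ⁅y i, y j⁆ ∈ T) : commutator Q ≤ T := by
  have h1 : ∀ i, ∀ b : Q, ⁅y i, b⁆ ∈ T := by
    intro i b
    have hb : b ∈ Subgroup.closure (Set.range y) := by rw [hgen]; trivial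
    induction hb using Subgroup.closure_induction with
    | mem b hb => obtain ⟨j, rfl⟩ := hb; exact hT i j
    | one => rw [commutatorElement_one_right]; exact T.one_mem
    | mul b b' _ _ ihb ihb' => rw [S3_comm_mul_right hc]; exact T.mul_mem ihb ihb'
    | inv b _ ihb =>
      have h := S3_comm_mul_right hc (y i) b b⁻¹
      rw [mul_inv_cancel, commutatorElement_one_right] at h
      have : ⁅y i, b⁻¹⁆ = ⁅y i, b⁆⁻¹ := by
        rw [eq_comm, inv_eq_iff_mul_eq_one]
        exact h.symm
      rw [this]; exact T.inv_mem ihb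
  have h2 : ∀ a b : Q, ⁅a, b⁆ ∈ T := by
    intro a b
    have ha : a ∈ Subgroup.closure (Set.range y) := by rw [hgen]; trivial
    induction ha using Subgroup.closure_induction with
    | mem a ha => obtain ⟨i, rfl⟩ := ha; exact h1 i b
    | one => rw [commutatorElement_one_left]; exact T.one_mem
    | mul a a' _ _ iha iha' => rw [S3_comm_mul_left hc]; exact T.mul_mem iha iha'
    | inv a _ iha =>
      have h := S3_comm_mul_left hc a a⁻¹ b
      rw [mul_inv_cancel, commutatorElement_one_left] at h
      have : ⁅a⁻¹, b⁆ = ⁅a, b⁆⁻¹ := by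
        rw [eq_comm, inv_eq_iff_mul_eq_one]
        exact h.symm
      rw [this]; exact T.inv_mem iha
  rw [_root_.commutator_def, Subgroup.commutator_le]
  intro a _ b _
  exact h2 a b

/-- abstract top part: class 2, `d` generators with central `p`-th powers. -/
theorem S3_card_commutator_class2 [Finite Q] {p : ℕ} (hp : 0 < p)
    (hc : ∀ a b : Q, ⁅a, b⁆ ∈ Subgroup.center Q) {d : ℕ} (y : Fin d → Q)
    (hgen : Subgroup.closure (Set.range y) = ⊤)
    (hpow : ∀ i, y i ^ p ∈ Subgroup.center Q) :
    Nat.card (commutator Q) ≤ p ^ (d * (d - 1) / 2) := by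
  classical
  set S : Finset Q := Finset.univ.biUnion
    (fun j : Fin d => (Finset.Iio j).image (fun i => ⁅y i, y j⁆)) with hS
  have hSmem : ∀ i j : Fin d, i < j → ⁅y i, y j⁆ ∈ S := by
    intro i j hij
    rw [hS, Finset.mem_biUnion]
    exact ⟨j, Finset.mem_univ _, Finset.mem_image.mpr ⟨i, Finset.mem_Iio.mpr hij, rfl⟩⟩
  have hSprop : ∀ c ∈ S, c ∈ Subgroup.center Q ∧ c ^ p = 1 := by
    intro c hcS
    rw [hS, Finset.mem_biUnion] at hcS
    obtain ⟨j, -, hcj⟩ := hcS
    obtain ⟨i, -, rfl⟩ := Finset.mem_image.mp hcj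
    refine ⟨hc _ _, ?_⟩
    rw [← S3_comm_pow_left hc, commutatorElement_eq_one_iff_commute]
    exact ((Subgroup.mem_center_iff.mp (hpow i)) (y j)).symm
  have hScard : S.card ≤ d * (d - 1) / 2 := by
    calc S.card ≤ ∑ j : Fin d, ((Finset.Iio j).image (fun i => ⁅y i, y j⁆)).card :=
          Finset.card_biUnion_le
      _ ≤ ∑ j : Fin d, (j : ℕ) := by
          refine Finset.sum_le_sum fun j _ => ?_
          exact Finset.card_image_le.trans (le_of_eq (Fin.card_Iio j))
      _ = ∑ k ∈ Finset.range d, k := Fin.sum_univ_eq_sum_range (fun k => k) d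
      _ = d * (d - 1) / 2 := Finset.sum_range_id d
  have hT : ∀ i j, ⁅y i, y j⁆ ∈ Subgroup.closure (S : Set Q) := by
    intro i j
    rcases lt_trichotomy i j with h | h | h
    · exact Subgroup.subset_closure (hSmem i j h)
    · rw [h, commutatorElement_self]; exact Subgroup.one_mem _
    · rw [← commutatorElement_inv]
      exact Subgroup.inv_mem _ (Subgroup.subset_closure (hSmem j i h))
  have hle := S3_commutator_le_closure hc y hgen _ hT
  calc Nat.card (commutator Q) ≤ Nat.card (Subgroup.closure (S : Set Q)) :=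
        Subgroup.card_le_of_le hle
    _ ≤ p ^ S.card := S3_card_closure_le hp S hSprop
    _ ≤ p ^ (d * (d - 1) / 2) := Nat.pow_le_pow_right hp hScard

end class2

/-- (S3) top part: `|G' : [Φ,G]| ≤ p^C(d,2)` for a `d`-generator `p`-group. -/
theorem card_commutator_le_of_generators {G : Type*} [Group G] [Finite G] {p : ℕ} [Fact p.Prime]
    (hG : IsPGroup p G) {d : ℕ} (x : Fin d → G)
    (hgen : Subgroup.closure (Set.range x) = ⊤) :
    Nat.card (commutator G) ≤
      p ^ (d * (d - 1) / 2) * Nat.card (⁅frattini G, (⊤ : Subgroup G)⁆ : Subgroup G) := by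
  have hp : p.Prime := Fact.out
  have : Group.IsNilpotent G := hG.isNilpotent
  set N : Subgroup G := ⁅frattini G, (⊤ : Subgroup G)⁆ with hN
  have hNle : N ≤ commutator G := by
    rw [_root_.commutator_def]; exact Subgroup.commutator_mono le_top le_rfl
  set f : G →* G ⧸ N := QuotientGroup.mk' N with hf
  have hfs : Function.Surjective f := QuotientGroup.mk'_surjective N
  have hker : f.ker = N := QuotientGroup.ker_mk' N
  -- images of Frattini elements are central
  have hcent : ∀ z ∈ frattini G, f z ∈ Subgroup.center (G ⧸ N) := by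
    intro z hz
    rw [Subgroup.mem_center_iff]
    intro c
    obtain ⟨k, rfl⟩ := hfs c
    have hzk : ⁅z, k⁆ ∈ N := Subgroup.commutator_mem_commutator hz (Subgroup.mem_top k)
    have h1 : f ⁅z, k⁆ = 1 := by
      rw [← MonoidHom.mem_ker, hker]; exact hzk
    rw [map_commutatorElement, commutatorElement_eq_one_iff_commute] at h1
    exact h1.eq.symm
  have hcQ : ∀ a b : G ⧸ N, ⁅a, b⁆ ∈ Subgroup.center (G ⧸ N) := by
    intro a b
    obtain ⟨g, rfl⟩ := hfs a
    obtain ⟨h, rfl⟩ := hfs b
    rw [← map_commutatorElement]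
    refine hcent _ (Cfsg.Agent.Helper2.commutator_le_frattini ?_)
    rw [_root_.commutator_def]
    exact Subgroup.commutator_mem_commutator (Subgroup.mem_top g) (Subgroup.mem_top h)
  have hgenQ : Subgroup.closure (Set.range (fun i => f (x i))) = ⊤ := by
    have : Set.range (fun i => f (x i)) = f '' Set.range x := by
      rw [← Set.range_comp]; rfl
    rw [this, ← MonoidHom.map_closure, hgen, Subgroup.map_top_of_surjective f hfs]
  have hpow : ∀ i, (f (x i)) ^ p ∈ Subgroup.center (G ⧸ N) := by
    intro i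
    rw [← map_pow]
    exact hcent _ (Cfsg.Agent.Helper63.pow_prime_mem_frattini hG (x i))
  have hQ := S3_card_commutator_class2 hp.pos hcQ (fun i => f (x i)) hgenQ hpow
  -- card (commutator G) = card (commutator (G/N)) * card N
  have hmap : (commutator G).map f = commutator (G ⧸ N) := by
    rw [_root_.commutator_def, _root_.commutator_def, Subgroup.map_commutator,
      Subgroup.map_top_of_surjective f hfs]
  have hrel : N.relIndex (commutator G) = Nat.card (commutator (G ⧸ N)) := by
    rw [← hmap]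
    have := Subgroup.relIndex_ker (K := commutator G) f
    rwa [hker] at this
  have hcard : Nat.card (commutator G) = N.relIndex (commutator G) * Nat.card N := by
    have h1 := Subgroup.card_mul_index (N.subgroupOf (commutator G))
    have h2 : Nat.card (N.subgroupOf (commutator G)) = Nat.card N :=
      Nat.card_congr (Subgroup.subgroupOfEquivOfLe hNle).toEquiv
    rw [h2] at h1
    rw [← h1, Nat.mul_comm]; rfl
  rw [hcard, hrel]
  exact Nat.mul_le_mul_right _ hQ

end Cfsg.Agent.Helper38.VL
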