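-- helper38: S3777 (Vaughan-Lee's breadth theorem): assembly of the farmed leaves
-- (farm #13454; blueprint `tools/helper38_vl/PROOF.md`, skeleton `tools/helper38_vl/Skel.lean.txt`).
import Mathlib
import Cfsg.Agent.Helper38.VL.Defs
import Cfsg.Agent.Helper74.VLProd
import Cfsg.Agent.Helper38.VL.S2
import Cfsg.Agent.Helper38.VL.S3
import Cfsg.Agent.Helper24.VL_LA2
import Cfsg.Agent.Helper30.VL_LMG
import Cfsg.Agent.Helper37.VL_RED
import Cfsg.Agent.Helper41.VL_LA4
import Cfsg.Agent.Helper41.VL_LA5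
import Cfsg.Agent.Helper49.VL_GG
import Cfsg.Agent.Helper59.VL_LA1
import Cfsg.Agent.Helper59.VL_TR1
import Cfsg.Agent.Helper67.VL_S5
import Cfsg.Agent.Helper69.VL_KEY
import Cfsg.Agent.Helper72.VL_IDX

set_option autoImplicit false

namespace Cfsg.Agent.Helper38.VL

open Subgroup

universe u

/-- (S4) product lemma (helper74). -/
theorem card_commutator_normal_le {G : Type*} [Group G] [Finite G] (hnil : Group.IsNilpotent G)
    (P : Subgroup G) [P.Normal] {d : ℕ} (x : Fin d → G)
    (hgen : Subgroup.closure (Set.range x) = ⊤) :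
    Nat.card (⁅P, (⊤ : Subgroup G)⁆ : Subgroup G) ≤
      ∏ i, (Subgroup.centralizer ({x i} : Set G)).relIndex P := by
  haveI := hnil
  exact Cfsg.Agent.Helper74.card_commutator_le_prod_relIndex x hgen P

/-! ## Glue -/

/-- pure arithmetic at the end of the double count -/
theorem la_arith (P a B S q : ℕ) (hP : 1 ≤ P) (hq : 0 < q)
    (h1 : a * (P ^ 2 * q) ≤ (P + 1) ^ 3 * S)
    (h2 : (P + 1) ^ 2 * S + (P + 1) ^ 2 * B ≤ B * q)
    (h3 : (P + 1) * B = P * q) (h4 : a + (P + 1) = q) : False := by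
  -- multiply h2 by p
  have h2' : (P + 1) ^ 3 * S + (P + 1) ^ 2 * (P * q) ≤ (P * q) * q := by
    have := Nat.mul_le_mul_left (P + 1) h2
    calc (P + 1) ^ 3 * S + (P + 1) ^ 2 * (P * q)
        = (P + 1) * ((P + 1) ^ 2 * S + (P + 1) ^ 2 * B) := by rw [← h3]; ring
      _ ≤ (P + 1) * (B * q) := this
      _ = ((P + 1) * B) * q := by ring
      _ = (P * q) * q := by rw [h3]
  have h5 : (P * q) * (a * P + (P + 1) ^ 2) ≤ (P * q) * q := by
    calc (P * q) * (a * P + (P + 1) ^ 2) = a * (P ^ 2 * q) + (P + 1) ^ 2 * (P * q) := by ring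
      _ ≤ (P + 1) ^ 3 * S + (P + 1) ^ 2 * (P * q) := Nat.add_le_add_right h1 _
      _ ≤ (P * q) * q := h2'
  have hPq : 0 < P * q := Nat.mul_pos hP hq
  have h6 : a * P + (P + 1) ^ 2 ≤ q := Nat.le_of_mul_le_mul_left h5 hPq
  rw [← h4] at h6
  have : a ≤ a * P := Nat.le_mul_of_pos_right _ hP
  nlinarith

/-- (LA) the good vectors span (counting). -/
theorem span_goodVec_eq_top {p : ℕ} [Fact p.Prime] {V : Type*} [AddCommGroup V]
    [Module (ZMod p) V] [Finite V]
    (R : Module.Dual (ZMod p) V → Submodule (ZMod p) V)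
    (hR : ∀ α : Module.Dual (ZMod p) V, α ≠ 0 → R α ≤ LinearMap.ker α ∧
      Module.finrank (ZMod p) (R α) + 2 = Module.finrank (ZMod p) V) :
    Submodule.span (ZMod p) {v : V | GoodVec R v} = ⊤ := by
  classical
  have hp : p.Prime := Fact.out
  by_contra hne
  obtain ⟨α₀, hα₀ne, hα₀⟩ : ∃ α₀ : Module.Dual (ZMod p) V, α₀ ≠ 0 ∧
      ∀ v, GoodVec R v → α₀ v = 0 := by
    have hlt : Submodule.span (ZMod p) {v : V | GoodVec R v} < ⊤ := lt_top_iff_ne_top.mpr hne
    obtain ⟨f, hf0, hf⟩ := Submodule.exists_le_ker_of_lt_top _ hlt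
    exact ⟨f, hf0, fun v hv => hf (Submodule.subset_span hv)⟩
  have : Finite (Module.Dual (ZMod p) V) := DFunLike.finite _
  let A := {α : Module.Dual (ZMod p) V // α ∉ Submodule.span (ZMod p) {α₀}}
  let B := {v : V // α₀ v ≠ 0}
  have : Fintype A := Fintype.ofFinite A
  have : Fintype B := Fintype.ofFinite B
  let r : A → B → Prop := fun a b => a.1 b.1 = 0 ∧ b.1 ∉ R a.1
  have hAne : ∀ a : A, a.1 ≠ 0 := fun a h => a.2 (h ▸ Submodule.zero_mem _)
  have hdc := Finset.sum_card_bipartiteAbove_eq_sum_card_bipartiteBelow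
    (s := (Finset.univ : Finset A)) (t := (Finset.univ : Finset B)) r
  set q := Nat.card V with hq
  have hqpos : 0 < q := Nat.card_pos
  -- lower bound
  have hlow : ∀ a : A, (p - 1) ^ 2 * q ≤
      p ^ 3 * ((Finset.univ : Finset B).bipartiteAbove r a).card := by
    intro a
    obtain ⟨hRle, hRd⟩ := hR a.1 (hAne a)
    have h := Cfsg.Agent.Helper24.VL.card_ker_diff_ge a.1 α₀ a.2 hα₀ne (R a.1) hRle hRd
    refine h.trans (Nat.mul_le_mul_left _ ?_)
    have hle : Nat.card {v : V // a.1 v = 0 ∧ α₀ v ≠ 0 ∧ v ∉ R a.1} ≤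
        Nat.card {b : B // r a b} := by
      refine Nat.card_le_card_of_injective
        (fun v => ⟨⟨v.1, v.2.2.1⟩, v.2.1, v.2.2.2⟩) ?_
      intro v w hvw
      have := congrArg (fun z : {b : B // r a b} => (z.1.1 : V)) hvw
      exact Subtype.ext this
    refine hle.trans (le_of_eq ?_)
    rw [Nat.card_eq_fintype_card, Fintype.card_subtype]
    rfl
  -- upper bound
  have hup : ∀ b : B, p ^ 2 * (((Finset.univ : Finset A).bipartiteBelow r b).card + 1) ≤ q := by
    intro b
    have hbne : b.1 ≠ 0 := fun h => b.2 (by rw [h, map_zero])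
    have hng : ¬ GoodVec R b.1 := fun h => b.2 (hα₀ _ h)
    have : ∃ w : V, (∀ α : Module.Dual (ZMod p) V, α ≠ 0 → α b.1 = 0 → b.1 ∉ R α → α w = 0) ∧
        w ∉ Submodule.span (ZMod p) {b.1} := by
      by_contra hcon
      push Not at hcon
      exact hng ⟨hbne, hcon⟩
    obtain ⟨w, hw1, hw2⟩ := this
    have h := Cfsg.Agent.Helper59.VL.card_dual_vanishing_pair hbne hw2
    have hle : Nat.card (Option {a : A // r a b}) ≤
        Nat.card {α : Module.Dual (ZMod p) V // α b.1 = 0 ∧ α w = 0} := by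
      refine Nat.card_le_card_of_injective
        (fun o => match o with
          | none => ⟨0, by simp, by simp⟩
          | some a => ⟨a.1.1, a.2.1, hw1 a.1.1 (hAne a.1) a.2.1 a.2.2⟩) ?_
      intro o1 o2 h12
      cases o1 with
      | none =>
        cases o2 with
        | none => rfl
        | some a2 =>
          simp only [Subtype.mk.injEq] at h12
          exact absurd h12.symm (hAne a2.1)
      | some a1 =>
        cases o2 with
        | none =>
          simp only [Subtype.mk.injEq] at h12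
          exact absurd h12 (hAne a1.1)
        | some a2 =>
          simp only [Subtype.mk.injEq] at h12
          exact congrArg some (Subtype.ext (Subtype.ext h12))
    have hopt : Nat.card (Option {a : A // r a b}) =
        ((Finset.univ : Finset A).bipartiteBelow r b).card + 1 := by
      rw [Nat.card_eq_fintype_card, Fintype.card_option, Fintype.card_subtype]
      rfl
    rw [hopt] at hle
    calc p ^ 2 * (((Finset.univ : Finset A).bipartiteBelow r b).card + 1)
        ≤ p ^ 2 * Nat.card {α : Module.Dual (ZMod p) V // α b.1 = 0 ∧ α w = 0} :=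
          Nat.mul_le_mul_left _ hle
      _ = q := by rw [Nat.mul_comm, h]
  -- sums
  set S := ∑ b ∈ (Finset.univ : Finset B), ((Finset.univ : Finset A).bipartiteBelow r b).card
    with hS
  have h1 : Fintype.card A * ((p - 1) ^ 2 * q) ≤ p ^ 3 * S := by
    rw [← hdc, Finset.mul_sum]
    calc Fintype.card A * ((p - 1) ^ 2 * q)
        = ∑ _a ∈ (Finset.univ : Finset A), (p - 1) ^ 2 * q := by
          rw [Finset.sum_const, Finset.card_univ, smul_eq_mul]
      _ ≤ _ := Finset.sum_le_sum fun a _ => hlow a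
  have h2 : p ^ 2 * S + p ^ 2 * Fintype.card B ≤ Fintype.card B * q := by
    have : ∑ b ∈ (Finset.univ : Finset B),
        p ^ 2 * (((Finset.univ : Finset A).bipartiteBelow r b).card + 1) ≤
        ∑ _b ∈ (Finset.univ : Finset B), q := Finset.sum_le_sum fun b _ => hup b
    rw [Finset.sum_const, Finset.card_univ, smul_eq_mul, ← Finset.mul_sum,
      Finset.sum_add_distrib, Finset.sum_const, Finset.card_univ, smul_eq_mul, mul_one,
      mul_add] at this
    exact this
  have h3 : p * Fintype.card B = (p - 1) * q := by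
    have := Cfsg.Agent.Helper41.VL.card_not_ker α₀ hα₀ne
    rwa [Nat.card_eq_fintype_card] at this
  have h4 : Fintype.card A + p = q := by
    have := Cfsg.Agent.Helper41.VL.card_dual_not_mem_span α₀ hα₀ne
    rwa [Nat.card_eq_fintype_card] at this
  obtain ⟨P, rfl⟩ : ∃ P, p = P + 1 := ⟨p - 1, (Nat.succ_pred_eq_of_pos hp.pos).symm⟩
  have hP : 1 ≤ P := by have := hp.two_le; omega
  simp only [Nat.add_sub_cancel] at h1 h3
  exact la_arith P (Fintype.card A) (Fintype.card B) S q hP hqpos h1 h2 h3 h4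

/-- (GEN) good generators (counting lemma + basis extraction). -/
theorem exists_good_generators {G : Type u} [Group G] [Finite G] {p : ℕ} [Fact p.Prime]
    (hG : IsPGroup p G) (hcrit : Critical G) :
    ∃ (d : ℕ) (x : Fin d → G), Subgroup.closure (Set.range x) = ⊤ ∧
      (frattini G).index = p ^ d ∧ ∀ i, Good (x i) ∧ x i ∉ frattini G := by
  obtain ⟨V, _, _, _, π, hπ, hker⟩ := Cfsg.Agent.Helper59.VL.exists_frattini_module hG
  obtain ⟨R, hR, hkey⟩ := Cfsg.Agent.Helper30.VL.linear_model_of_key hG π hπ hker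
    (fun M hM => Cfsg.Agent.Helper69.VL.exists_R_of_maximal hG hcrit M hM)
  exact Cfsg.Agent.Helper49.VL.good_generators_of_model hG π hπ hker R hkey (span_goodVec_eq_top R hR)

/-- Vaughan-Lee for critical groups. -/
theorem card_commutator_le_of_critical {G : Type u} [Group G] [Finite G] {p : ℕ} [Fact p.Prime]
    (hG : IsPGroup p G) (hcrit : Critical G) (b : ℕ)
    (hb : ∀ x : G, (Subgroup.centralizer ({x} : Set G)).index ≤ p ^ b) :
    Nat.card (commutator G) ≤ p ^ (b * (b + 1) / 2) := by
  have hp : p.Prime := Fact.out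
  obtain ⟨d, x, hgen, hidx, hgood⟩ := exists_good_generators hG hcrit
  have key : ∀ i, p ^ d * (Subgroup.centralizer ({x i} : Set G)).relIndex (frattini G)
      ≤ p ^ (b + 1) := by
    intro i
    have h := good_index_bound hG (hgood i).1 (hgood i).2
    rw [hidx] at h
    calc _ ≤ p * (Subgroup.centralizer ({x i} : Set G)).index := h
      _ ≤ p * p ^ b := Nat.mul_le_mul_left _ (hb _)
      _ = p ^ (b + 1) := by ring
  have hrpos : ∀ i, 0 < (Subgroup.centralizer ({x i} : Set G)).relIndex (frattini G) := by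
    intro i
    have : (Subgroup.centralizer ({x i} : Set G)).relIndex (frattini G) ≠ 0 := by
      unfold Subgroup.relIndex
      exact Subgroup.index_ne_zero_of_finite
    exact Nat.pos_of_ne_zero this
  by_cases hd0 : d = 0
  · subst hd0
    have h3 := card_commutator_le_of_generators hG x hgen
    have h4 := card_commutator_normal_le hG.isNilpotent (frattini G) x hgen
    simp at h3 h4
    calc Nat.card (commutator G) ≤ Nat.card (⁅frattini G, (⊤ : Subgroup G)⁆ : Subgroup G) := h3
      _ ≤ 1 := h4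
      _ ≤ _ := Nat.one_le_pow _ _ hp.pos
  have hdb : d ≤ b + 1 := by
    obtain ⟨i⟩ : Nonempty (Fin d) := ⟨⟨0, Nat.pos_of_ne_zero hd0⟩⟩
    have h1 : p ^ d ≤ p ^ (b + 1) :=
      le_trans (Nat.le_mul_of_pos_right _ (hrpos i)) (key i)
    exact (Nat.pow_le_pow_iff_right hp.one_lt).mp h1
  have hri : ∀ i, (Subgroup.centralizer ({x i} : Set G)).relIndex (frattini G)
      ≤ p ^ (b + 1 - d) := by
    intro i
    have h := key i
    have h2 : p ^ (b + 1) = p ^ d * p ^ (b + 1 - d) := by
      rw [← pow_add]; congr 1; omega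
    rw [h2] at h
    exact Nat.le_of_mul_le_mul_left h (pow_pos hp.pos d)
  calc Nat.card (commutator G)
      ≤ p ^ (d * (d - 1) / 2) * Nat.card (⁅frattini G, (⊤ : Subgroup G)⁆ : Subgroup G) :=
        card_commutator_le_of_generators hG x hgen
    _ ≤ p ^ (d * (d - 1) / 2) *
          ∏ i, (Subgroup.centralizer ({x i} : Set G)).relIndex (frattini G) :=
        Nat.mul_le_mul_left _ (card_commutator_normal_le hG.isNilpotent (frattini G) x hgen)
    _ ≤ p ^ (d * (d - 1) / 2) * ∏ _i : Fin d, p ^ (b + 1 - d) :=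
        Nat.mul_le_mul_left _ (Finset.prod_le_prod' fun i _ => hri i)
    _ = p ^ (d * (d - 1) / 2 + d * (b + 1 - d)) := by
        rw [Finset.prod_const, Finset.card_univ, Fintype.card_fin, pow_add, ← pow_mul,
          Nat.mul_comm (b + 1 - d) d]
    _ ≤ p ^ (b * (b + 1) / 2) := Nat.pow_le_pow_right hp.pos (Cfsg.Agent.Helper67.VL.arith_bound d b hdb)

/-- Vaughan-Lee's theorem. -/
theorem vaughanLee {G : Type u} [Group G] [Finite G] {p : ℕ} [Fact p.Prime]
    (hG : IsPGroup p G) (b : ℕ)
    (hb : ∀ x : G, (Subgroup.centralizer ({x} : Set G)).index ≤ p ^ b) :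
    Nat.card (commutator G) ≤ p ^ (b * (b + 1) / 2) := by
  obtain ⟨H, hH, hcrit⟩ := Cfsg.Agent.Helper37.VL.exists_critical_subgroup (G := G)
  have hcard : Nat.card (commutator G) = Nat.card (commutator H) := by
    rw [← hH]
    exact Subgroup.card_map_of_injective H.subtype_injective
  rw [hcard]
  exact card_commutator_le_of_critical (hG.to_subgroup H) hcrit b
    (fun x => (Cfsg.Agent.Helper72.VL.index_centralizer_subgroup_le H x).trans (hb x))

end Cfsg.Agent.Helper38.VL
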